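import Groth.Agent.Lib.CurveCartier25.RelDim
import Groth.Agent.Lib.DimF18.Basic
import Groth.Agent.Lib.VB17.Setup
import Mathlib.AlgebraicGeometry.Properties

/-!
# Dimensions of local rings of a scheme smooth of relative dimension `n` over a field
-/

set_option autoImplicit false
set_option linter.style.haveILetI false
set_option backward.isDefEq.respectTransparency.types false

universe u

open CategoryTheory CategoryTheory.Limits AlgebraicGeometry TopologicalSpace

namespace Groth.Agent.SmDim19

variable {k : Type u} [Field k] {X : Scheme.{u}} (f : X ⟶ Spec (CommRingCat.of k)) (n : ℕ)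

/-- Local rings at closed points have dimension the relative dimension. -/
theorem ringKrullDim_stalk_of_isClosed [SmoothOfRelativeDimension n f] {z : X} (hz : IsClosed ({z} : Set X)) :
    ringKrullDim (X.presheaf.stalk z) = n := by
  obtain ⟨U, hU, V, hV, hzV, e, hs⟩ := SmoothOfRelativeDimension.exists_isStandardSmoothOfRelativeDimension
    (n := n) (f := f) z
  haveI : Subsingleton (Spec (CommRingCat.of k)) := inferInstanceAs (Subsingleton (PrimeSpectrum k))
  have hUtop : U = ⊤ := Opens.ext (Set.eq_univ_of_forall fun y => by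
    rw [Subsingleton.elim (α := Spec (CommRingCat.of k)) y (f z)]; exact e hzV)
  subst hUtop
  let ε : k ≃+* Γ(Spec (CommRingCat.of k), ⊤) :=
    (Scheme.ΓSpecIso (CommRingCat.of k)).symm.commRingCatIsoToRingEquiv
  letI : Algebra k Γ(X, V) := ((f.appLE ⊤ V e).hom.comp ε.toRingHom).toAlgebra
  haveI : Algebra.IsStandardSmoothOfRelativeDimension n k Γ(X, V) :=
    (RingHom.isStandardSmoothOfRelativeDimension_algebraMap n).1
      ((RingHom.isStandardSmoothOfRelativeDimension_respectsIso (n := n)).2 _ ε hs)
  let M := hV.primeIdealOf ⟨z, hzV⟩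
  haveI hM : M.asIdeal.IsMaximal := by
    rw [← PrimeSpectrum.isClosed_singleton_iff_isMaximal]
    have h1 : (hV.fromSpec ⁻¹' {z} : Set (PrimeSpectrum Γ(X, V))) = {M} := by
      ext y
      show hV.fromSpec y = z ↔ y = M
      constructor
      · intro h
        exact hV.fromSpec.isOpenEmbedding.injective (h.trans (hV.fromSpec_primeIdealOf ⟨z, hzV⟩).symm)
      · rintro rfl
        exact hV.fromSpec_primeIdealOf ⟨z, hzV⟩
    have h2 : IsClosed (hV.fromSpec ⁻¹' {z} : Set (PrimeSpectrum Γ(X, V))) := hz.preimage hV.fromSpec.continuous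
    rwa [h1] at h2
  have h1 := CurveCartier25.ringKrullDim_atPrime_of_standardSmooth k Γ(X, V) n M.asIdeal
  letI := X.presheaf.algebra_section_stalk (U := V) ⟨z, hzV⟩
  haveI := hV.isLocalization_stalk ⟨z, hzV⟩
  rwa [ringKrullDim_eq_of_ringEquiv (IsLocalization.algEquiv M.asIdeal.primeCompl (Localization.AtPrime M.asIdeal)
    (X.presheaf.stalk z)).toRingEquiv] at h1

/-- If `{x}` has closure of dimension at most `d`, the local ring at `x` has dimension at least `n - d`. -/
theorem le_ringKrullDim_stalk [SmoothOfRelativeDimension n f] (x : X) (d : ℕ)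
    (hd : topologicalKrullDim (closure ({x} : Set X)) ≤ d) :
    (((n - d : ℕ) : ℕ∞) : WithBot ℕ∞) ≤ ringKrullDim (X.presheaf.stalk x) := by
  haveI : Smooth f := SmoothOfRelativeDimension.smooth n f
  rw [VarDim.dim_closure_singleton f] at hd
  have hd' : VarDim.sdim f x ≤ d := by exact_mod_cast hd
  rw [ringKrullDim_stalk_eq_coheight]
  refine WithBot.coe_le_coe.2 ?_
  by_cases hb : Order.coheight x = ⊤
  · rw [hb]; exact le_top
  obtain ⟨b, hb'⟩ := ENat.ne_top_iff_exists.1 hb
  have h := DimF18.localDim_eq f hb'.symm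
  have hn : (n : WithBot ℕ∞) ≤ FlatMor.localDim X x := by
    refine le_iInf fun U => ?_
    haveI : JacobsonSpace X := LocallyOfFiniteType.jacobsonSpace f
    let U' : X.Opens := U.1
    obtain ⟨z, hzU, hz⟩ := nonempty_inter_closedPoints (X := X) ⟨x, U.2⟩ U'.2.isLocallyClosed
    have h1 := VB17.ringKrullDim_stalk_le_topologicalKrullDim (X := U'.toScheme) ⟨z, hzU⟩
    rw [ringKrullDim_eq_of_ringEquiv (U'.stalkIso ⟨z, hzU⟩).commRingCatIsoToRingEquiv] at h1
    exact (ringKrullDim_stalk_of_isClosed f n hz).ge.trans h1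
  rw [h] at hn
  have hn' : n ≤ VarDim.sdim f x + b := by exact_mod_cast hn
  rw [← hb']
  exact_mod_cast (show n - d ≤ b by omega)

end Groth.Agent.SmDim19
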