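import Groth.Agent.Lib.SmDim19.Basic

/-!
# A smooth irreducible variety is smooth of relative dimension its dimension
-/

set_option autoImplicit false
set_option linter.style.haveILetI false
set_option backward.isDefEq.respectTransparency.types false

universe u

open CategoryTheory CategoryTheory.Limits AlgebraicGeometry TopologicalSpace

namespace Groth.Agent.SmDim19

variable {k : Type u} [Field k] {X : Scheme.{u}} (f : X ⟶ Spec (CommRingCat.of k))

theorem ringKrullDim_stalk_closed [IrreducibleSpace X] [LocallyOfFiniteType f] {d : ℕ}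
    (hd : topologicalKrullDim ↥X = d) {z : X} (hz : IsClosed ({z} : Set X)) :
    ringKrullDim (X.presheaf.stalk z) = d := by
  have h1 := VarDim.dim_eq_sdim_genericPoint f
  rw [hd] at h1
  have hd' : d = VarDim.sdim f (genericPoint X) := by exact_mod_cast h1
  have h2 := DimF18.sdim_le_add_coheight f (genericPoint_specializes z : genericPoint X ⤳ z)
  rw [(VarDim.sdim_eq_zero_iff_isClosed f z).2 hz, ← hd'] at h2
  rw [ringKrullDim_stalk_eq_coheight]
  refine le_antisymm ?_ ?_
  · rw [← hd, VarDim.scheme_dim_eq_iSup_height, ← Order.krullDim_eq_iSup_height]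
    exact Order.coheight_le_krullDim z
  · have h3 : (d : ℕ∞) ≤ Order.coheight z := by simpa using h2
    exact WithBot.coe_le_coe.2 h3

/-- A smooth irreducible scheme over a field is smooth of relative dimension its dimension. -/
theorem smoothOfRelativeDimension_of_smooth [Smooth f] [IrreducibleSpace X] (d : ℕ)
    (hd : topologicalKrullDim ↥X = d) : SmoothOfRelativeDimension d f := by
  refine ⟨fun x => ?_⟩
  obtain ⟨U, hU, V, hV, hxV, e, hs⟩ := Smooth.exists_isStandardSmooth f x
  refine ⟨U, hU, V, hV, hxV, e, ?_⟩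
  letI := (f.appLE U V e).hom.toAlgebra
  haveI : Algebra.IsStandardSmooth Γ(Spec (CommRingCat.of k), U) Γ(X, V) := hs
  obtain ⟨ι, σ, _, _, ⟨P⟩⟩ := (inferInstance : Algebra.IsStandardSmooth Γ(Spec (CommRingCat.of k), U) Γ(X, V)).out
  haveI hn : Algebra.IsStandardSmoothOfRelativeDimension P.dimension Γ(Spec (CommRingCat.of k), U) Γ(X, V) :=
    ⟨ι, σ, inferInstance, inferInstance, P, rfl⟩
  haveI : JacobsonSpace X := LocallyOfFiniteType.jacobsonSpace f
  obtain ⟨z, hzV, hz⟩ := nonempty_inter_closedPoints (X := X) ⟨x, hxV⟩ V.2.isLocallyClosed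
  -- the closed point, seen in the open subscheme
  haveI : SmoothOfRelativeDimension P.dimension (V.ι ≫ f) := by
    haveI : IsAffine V.toScheme := hV
    refine ⟨fun y => ⟨U, hU, ⊤, isAffineOpen_top _, trivial, fun y' _ => e y'.2, ?_⟩⟩
    have e' : (V.ι ≫ f).appLE U ⊤ (fun y' _ => e y'.2) = f.appLE U V e ≫ V.topIso.inv := by
      simp [Scheme.Hom.appLE, Scheme.Opens.topIso]
      congr 1
      exact ((X.presheaf.map_comp _ _).symm).trans
        ((congrArg X.presheaf.map (Subsingleton.elim _ _)).trans (X.presheaf.map_comp _ _))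
    rw [e', CommRingCat.hom_comp]
    exact RingHom.isStandardSmoothOfRelativeDimension_respectsIso.left _ V.topIso.symm.commRingCatIsoToRingEquiv
      ((RingHom.isStandardSmoothOfRelativeDimension_algebraMap P.dimension).2 hn)
  have hz' : IsClosed ({(⟨z, hzV⟩ : V.toScheme)} : Set V.toScheme) := by
    convert hz.preimage V.ι.continuous using 1
    ext y
    exact ⟨fun h => congrArg Subtype.val h, fun h => Subtype.ext h⟩
  have h1 := ringKrullDim_stalk_of_isClosed (V.ι ≫ f) P.dimension hz'
  rw [ringKrullDim_eq_of_ringEquiv (V.stalkIso ⟨z, hzV⟩).commRingCatIsoToRingEquiv,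
    ringKrullDim_stalk_closed f hd hz] at h1
  have h2 : d = P.dimension := by exact_mod_cast h1
  rw [h2]
  exact (RingHom.isStandardSmoothOfRelativeDimension_algebraMap P.dimension).2 hn

end Groth.Agent.SmDim19
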