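import Groth.Agent.Lib.TowerSmooth5.Basic
import Mathlib.RingTheory.Kaehler.TensorProduct
import Mathlib.RingTheory.LocalRing.Module
import Mathlib.RingTheory.Ideal.Cotangent
import Mathlib.RingTheory.LocalRing.ResidueField.Basic
import Mathlib.LinearAlgebra.TensorProduct.Quotient
import Mathlib.RingTheory.Smooth.Basic
import Mathlib.RingTheory.Flat.Basic
import Mathlib.RingTheory.LocalRing.Module

/-!
# Smoothness of local homomorphisms through the cotangent spaces
-/

set_option autoImplicit false
set_option linter.style.haveILetI false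
set_option backward.isDefEq.respectTransparency false
set_option backward.isDefEq.respectTransparency.types false

universe u

open TensorProduct KaehlerDifferential IsLocalRing

namespace Groth.Agent.SmDim19

section

variable (k A : Type u) [Field k] [CommRing A] [Algebra k A] [IsLocalRing A]

/-- For a local algebra with trivial residue extension, the differentials map to the cotangent space. -/
theorem exists_toCotangent (hres : Function.Bijective ((residue A).comp (algebraMap k A))) :
    ∃ L : Ω[A⁄k] →ₗ[A] CotangentSpace A, ∀ a : maximalIdeal A, L (D k A a) = (maximalIdeal A).toCotangent a := by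
  let eκ := RingEquiv.ofBijective _ hres
  let c : A → A := fun a => algebraMap k A (eκ.symm (residue A a))
  have hc : ∀ a, a - c a ∈ maximalIdeal A := fun a => by
    rw [← residue_eq_zero_iff, map_sub, show residue A (c a) = eκ (eκ.symm (residue A a)) from rfl,
      eκ.apply_symm_apply, sub_self]
  have hck : ∀ r : k, c (algebraMap k A r) = algebraMap k A r := fun r => by
    show algebraMap k A (eκ.symm (eκ r)) = _
    rw [eκ.symm_apply_apply]
  have hadd : ∀ a b, c (a + b) = c a + c b := fun a b => by simp [c]
  have hmul : ∀ a b, c (a * b) = c a * c b := fun a b => by simp [c]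
  let δ : A → CotangentSpace A := fun a => (maximalIdeal A).toCotangent ⟨a - c a, hc a⟩
  have hδadd : ∀ a b, δ (a + b) = δ a + δ b := fun a b => by
    show _ = (maximalIdeal A).toCotangent _ + (maximalIdeal A).toCotangent _
    rw [← map_add]
    exact congrArg _ (Subtype.ext (by simp [hadd]; ring))
  have hδmul : ∀ a b, δ (a * b) = a • δ b + b • δ a := fun a b => by
    show _ = a • (maximalIdeal A).toCotangent _ + b • (maximalIdeal A).toCotangent _
    rw [← map_smul, ← map_smul, ← map_add, Ideal.toCotangent_eq]
    have h2 : (a - c a) * (b - c b) ∈ maximalIdeal A ^ 2 := by rw [pow_two]; exact Ideal.mul_mem_mul (hc a) (hc b)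
    simp only [Submodule.coe_add, Submodule.coe_smul, smul_eq_mul, hmul]
    convert neg_mem h2 using 1
    ring
  have hδk : ∀ r : k, δ (algebraMap k A r) = 0 := fun r => by
    show (maximalIdeal A).toCotangent _ = 0
    rw [Ideal.toCotangent_eq_zero]
    simp [hck]
  have hδsmul : ∀ (r : k) (a : A), δ (r • a) = r • δ a := fun r a => by
    rw [Algebra.smul_def, hδmul, hδk, smul_zero, add_zero, algebraMap_smul]
  let d : Derivation k A (CotangentSpace A) := Derivation.mk'
    { toFun := δ, map_add' := hδadd, map_smul' := hδsmul } hδmul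
  refine ⟨d.liftKaehlerDifferential, fun a => ?_⟩
  rw [Derivation.liftKaehlerDifferential_comp_D]
  show (maximalIdeal A).toCotangent ⟨(a : A) - c a, hc a⟩ = _
  have : c (a : A) = 0 := by
    show algebraMap k A (eκ.symm (residue A (a : A))) = 0
    rw [(residue_eq_zero_iff _).2 a.2, map_zero, map_zero]
  exact congrArg _ (Subtype.ext (by simp [this]))

theorem D_mem_of_mem_sq {a : A} (ha : a ∈ maximalIdeal A ^ 2) :
    D k A a ∈ maximalIdeal A • (⊤ : Submodule A Ω[A⁄k]) := by
  rw [pow_two] at ha
  induction ha using Submodule.mul_induction_on' with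
  | mem_mul_mem x hx y hy =>
    rw [Derivation.leibniz]
    exact add_mem (Submodule.smul_mem_smul hx trivial) (Submodule.smul_mem_smul hy trivial)
  | add x _ y _ hx hy => rw [map_add]; exact add_mem hx hy

end

variable (k A T : Type u) [Field k] [CommRing A] [CommRing T] [IsLocalRing A] [IsLocalRing T]
  [Algebra k A] [Algebra k T] [Algebra A T] [IsScalarTower k A T] [IsLocalHom (algebraMap A T)]

/-- The cotangent map is injective iff the homomorphism is formally smooth (both local algebras formally smooth
over `k`, with residue field `k`). -/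
theorem cotangent_injective_iff_formallySmooth
    (hA : Function.Bijective ((residue A).comp (algebraMap k A)))
    (hT : Function.Bijective ((residue T).comp (algebraMap k T)))
    [Algebra.FormallySmooth k T] [Module.Finite A Ω[A⁄k]] [Module.Finite T Ω[T⁄k]] :
    (∀ a ∈ maximalIdeal A, algebraMap A T a ∈ maximalIdeal T ^ 2 → a ∈ maximalIdeal A ^ 2) ↔
      Algebra.FormallySmooth A T := by
  haveI : Module.Free T Ω[T⁄k] := Module.free_of_flat_of_isLocalRing
  rw [TowerSmooth5.formallySmooth_iff k A T, IsLocalRing.split_injective_iff_lTensor_residueField_injective]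
  let N := T ⊗[A] Ω[A⁄k]
  let E := TensorProduct.quotTensorEquivQuotSMul N (maximalIdeal T)
  let E' := TensorProduct.quotTensorEquivQuotSMul Ω[T⁄k] (maximalIdeal T)
  -- congruences modulo the maximal ideal
  have hcongr : ∀ u : N, ∃ a ∈ maximalIdeal A,
      u - (1 : T) ⊗ₜ[A] D k A a ∈ maximalIdeal T • (⊤ : Submodule T N) := by
    let e := RingEquiv.ofBijective _ hT
    have hstep : ∀ u : N, ∃ w : Ω[A⁄k], u - (1 : T) ⊗ₜ[A] w ∈ maximalIdeal T • (⊤ : Submodule T N) := by
      intro u
      induction u using TensorProduct.induction_on with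
      | zero => exact ⟨0, by simp⟩
      | add u v hu hv =>
        obtain ⟨a, ha⟩ := hu; obtain ⟨b, hb⟩ := hv
        exact ⟨a + b, by rw [tmul_add, add_sub_add_comm]; exact add_mem ha hb⟩
      | tmul t w =>
        refine ⟨algebraMap k A (e.symm (residue T t)) • w, ?_⟩
        rw [← smul_tmul, show algebraMap k A (e.symm (residue T t)) • (1 : T) = algebraMap k T (e.symm (residue T t))
          by rw [Algebra.smul_def, mul_one, ← IsScalarTower.algebraMap_apply], ← sub_tmul,
          ← mul_one (t - _), ← smul_eq_mul, ← smul_tmul']
        refine Submodule.smul_mem_smul ?_ trivial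
        rw [← residue_eq_zero_iff, map_sub, show residue T (algebraMap k T (e.symm (residue T t))) =
          e (e.symm (residue T t)) from rfl, e.apply_symm_apply, sub_self]
    intro u
    obtain ⟨w, hw⟩ := hstep u
    let eA := RingEquiv.ofBijective _ hA
    have hw2 : ∀ w : Ω[A⁄k], ∃ a ∈ maximalIdeal A,
        (1 : T) ⊗ₜ[A] w - (1 : T) ⊗ₜ[A] D k A a ∈ maximalIdeal T • (⊤ : Submodule T N) := by
      intro w
      have : w ∈ Submodule.span A (Set.range (D k A)) := by rw [span_range_derivation]; trivial
      induction this using Submodule.span_induction with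
      | mem y hy =>
        obtain ⟨b, rfl⟩ := hy
        refine ⟨b - algebraMap k A (eA.symm (residue A b)), ?_, ?_⟩
        · rw [← residue_eq_zero_iff, map_sub, show residue A (algebraMap k A (eA.symm (residue A b))) =
            eA (eA.symm (residue A b)) from rfl, eA.apply_symm_apply, sub_self]
        · rw [map_sub, Derivation.map_algebraMap, sub_zero, sub_self]; exact zero_mem _
      | zero => exact ⟨0, zero_mem _, by simp⟩
      | add y z _ _ hy hz =>
        obtain ⟨a, ha, ha'⟩ := hy; obtain ⟨b, hb, hb'⟩ := hz
        exact ⟨a + b, add_mem ha hb, by rw [map_add, tmul_add, tmul_add, add_sub_add_comm]; exact add_mem ha' hb'⟩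
      | smul r y _ hy =>
        obtain ⟨a, ha, ha'⟩ := hy
        let r₀ := eA.symm (residue A r)
        have hr : r - algebraMap k A r₀ ∈ maximalIdeal A := by
          rw [← residue_eq_zero_iff, map_sub, show residue A (algebraMap k A r₀) = eA r₀ from rfl,
            eA.apply_symm_apply, sub_self]
        refine ⟨algebraMap k A r₀ * a, Ideal.mul_mem_left _ _ ha, ?_⟩
        rw [Derivation.leibniz, Derivation.map_algebraMap, smul_zero, add_zero,
          show (r • y : Ω[A⁄k]) = (r - algebraMap k A r₀) • y + algebraMap k A r₀ • y by rw [← add_smul, sub_add_cancel],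
          tmul_add, add_sub_assoc, tmul_smul, tmul_smul, tmul_smul,
          ← algebraMap_smul T (r - algebraMap k A r₀) ((1 : T) ⊗ₜ[A] y),
          ← algebraMap_smul T (algebraMap k A r₀) ((1 : T) ⊗ₜ[A] y),
          ← algebraMap_smul T (algebraMap k A r₀) ((1 : T) ⊗ₜ[A] D k A a)]
        refine add_mem (Submodule.smul_mem_smul (map_nonunit (algebraMap A T) _ hr) trivial) ?_
        have := Submodule.smul_mem _ (algebraMap A T (algebraMap k A r₀)) ha'
        rwa [smul_sub] at this
    obtain ⟨a, ha, ha'⟩ := hw2 w
    exact ⟨a, ha, by simpa using add_mem hw ha'⟩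
  have hE : ∀ u : N, (1 : ResidueField T) ⊗ₜ[T] u = 0 ↔ u ∈ maximalIdeal T • (⊤ : Submodule T N) := fun u => by
    rw [← E.map_eq_zero_iff]
    erw [TensorProduct.quotTensorEquivQuotSMul_mk_one_tmul, Submodule.Quotient.mk_eq_zero]
  have hE' : ∀ u : Ω[T⁄k], (1 : ResidueField T) ⊗ₜ[T] u = 0 ↔ u ∈ maximalIdeal T • (⊤ : Submodule T Ω[T⁄k]) :=
    fun u => by
    rw [← E'.map_eq_zero_iff]
    erw [TensorProduct.quotTensorEquivQuotSMul_mk_one_tmul, Submodule.Quotient.mk_eq_zero]
  have hD : ∀ a : A, mapBaseChange k A T ((1 : T) ⊗ₜ[A] D k A a) = D k T (algebraMap A T a) := fun a => by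
    rw [mapBaseChange_tmul, one_smul, map_D]
  constructor
  · intro h
    rw [injective_iff_map_eq_zero]
    intro z hz
    obtain ⟨u, rfl⟩ : ∃ u : N, (1 : ResidueField T) ⊗ₜ[T] u = z := TensorProduct.mk_surjective T N _
      residue_surjective z
    rw [LinearMap.lTensor_tmul, hE'] at hz
    obtain ⟨a, ha, ha'⟩ := hcongr u
    rw [hE]
    obtain ⟨L, hL⟩ := exists_toCotangent k T hT
    have h1 : mapBaseChange k A T ((1 : T) ⊗ₜ[A] D k A a) ∈ maximalIdeal T • (⊤ : Submodule T Ω[T⁄k]) := by
      have := Submodule.mem_map_of_mem (f := mapBaseChange k A T) ha'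
      rw [Submodule.map_smul'', map_sub] at this
      have h' := Submodule.smul_mono le_rfl le_top this
      have h3 := sub_mem hz h'
      rwa [sub_sub_cancel] at h3
    rw [hD] at h1
    have h2 : (maximalIdeal T).toCotangent ⟨algebraMap A T a, map_nonunit (algebraMap A T) a ha⟩ = 0 := by
      rw [← hL]
      refine Submodule.smul_induction_on h1 (fun r hr n _ => ?_) (fun x y hx hy => by rw [map_add, hx, hy, add_zero])
      rw [map_smul]
      obtain ⟨⟨v, hv⟩, hvn⟩ := Ideal.toCotangent_surjective (maximalIdeal T) (L n)
      rw [← hvn, ← map_smul, Ideal.toCotangent_eq_zero, pow_two]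
      exact Ideal.mul_mem_mul hr hv
    have h4 := h a ha ((Ideal.toCotangent_eq_zero _ _).1 h2)
    have h5 : (1 : T) ⊗ₜ[A] D k A a ∈ maximalIdeal T • (⊤ : Submodule T N) := by
      have := D_mem_of_mem_sq k A h4
      refine Submodule.smul_induction_on this (fun r hr n _ => ?_) (fun x y hx hy => by rw [tmul_add]; exact add_mem hx hy)
      rw [tmul_smul, ← algebraMap_smul T r ((1 : T) ⊗ₜ[A] n)]
      exact Submodule.smul_mem_smul (map_nonunit (algebraMap A T) _ hr) trivial
    have := add_mem ha' h5
    rwa [sub_add_cancel] at this
  · intro h a ha haT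
    have h1 : (1 : T) ⊗ₜ[A] D k A a ∈ maximalIdeal T • (⊤ : Submodule T N) := by
      rw [← hE]
      apply h
      rw [map_zero, LinearMap.lTensor_tmul, hD, hE']
      exact D_mem_of_mem_sq k T haT
    obtain ⟨L, hL⟩ := exists_toCotangent k A hA
    let eT := RingEquiv.ofBijective _ hT
    let c : T →+* A := (algebraMap k A).comp (eT.symm.toRingHom.comp (residue T))
    have hc : ∀ b : A, c (algebraMap A T b) - b ∈ maximalIdeal A := fun b => by
      let eA := RingEquiv.ofBijective _ hA
      have hb : b - algebraMap k A (eA.symm (residue A b)) ∈ maximalIdeal A := by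
        rw [← residue_eq_zero_iff, map_sub, show residue A (algebraMap k A (eA.symm (residue A b))) =
          eA (eA.symm (residue A b)) from rfl, eA.apply_symm_apply, sub_self]
      have : residue T (algebraMap A T b) = eT (eA.symm (residue A b)) := by
        show _ = residue T (algebraMap k T _)
        rw [IsScalarTower.algebraMap_apply k A T, ← sub_eq_zero, ← map_sub, ← map_sub, residue_eq_zero_iff]
        exact map_nonunit _ _ hb
      show algebraMap k A (eT.symm (residue T (algebraMap A T b))) - b ∈ _
      rw [this, eT.symm_apply_apply, ← neg_sub]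
      exact neg_mem hb
    have hkill : ∀ r ∈ maximalIdeal A, ∀ v : CotangentSpace A, r • v = 0 := fun r hr v => by
      obtain ⟨⟨v, hv⟩, rfl⟩ := Ideal.toCotangent_surjective (maximalIdeal A) v
      rw [← map_smul, Ideal.toCotangent_eq_zero, pow_two]
      exact Ideal.mul_mem_mul hr hv
    let M : N →+ CotangentSpace A := TensorProduct.liftAddHom
      { toFun := fun t =>
          { toFun := fun w => c t • L w
            map_zero' := by simp
            map_add' := fun x y => by simp }
        map_zero' := by ext w; simp
        map_add' := fun x y => by ext w; simp [add_smul] }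
      (fun r t w => by
        show c (r • t) • L w = c t • L (r • w)
        rw [Algebra.smul_def, map_mul, map_smul, smul_smul, mul_comm (c _) (c t),
          show c t * c (algebraMap A T r) = c t * (c (algebraMap A T r) - r) + c t * r by ring,
          add_smul, mul_smul (c t) (c (algebraMap A T r) - r), hkill _ (hc r), smul_zero, zero_add])
    have hM : ∀ (t : T) (v : N), M (t • v) = c t • M v := fun t v => by
      induction v using TensorProduct.induction_on with
      | zero => simp
      | add x y hx hy => rw [smul_add, map_add, hx, hy, map_add, smul_add]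
      | tmul s w =>
        rw [smul_tmul', smul_eq_mul]
        show c (t * s) • L w = c t • (c s • L w)
        rw [map_mul, mul_smul]
    have hM0 : M ((1 : T) ⊗ₜ[A] D k A a) = 0 := by
      refine Submodule.smul_induction_on h1 (fun r hr n _ => ?_) (fun x y hx hy => by rw [map_add, hx, hy, add_zero])
      rw [hM, show c r = 0 from ?_, zero_smul]
      show algebraMap k A (eT.symm (residue T r)) = 0
      rw [(residue_eq_zero_iff _).2 hr, map_zero, map_zero]
    change c 1 • L (D k A ((⟨a, ha⟩ : maximalIdeal A) : A)) = 0 at hM0
    rw [map_one, one_smul, hL, Ideal.toCotangent_eq_zero] at hM0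
    exact hM0

end Groth.Agent.SmDim19
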