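import Groth.Prelude.Def_FixPt
import Groth.Agent.Lib.SmDim19.CotangentAlg
import Groth.Agent.Lib.SmDim19.RelDimVariety
import Groth.Agent.Lib.ShStab28.Scalar
import Groth.Agent.Lib.VarDim.Fibre
import Mathlib.AlgebraicGeometry.Morphisms.Smooth
import Mathlib.RingTheory.Etale.Basic

/-!
# Smoothness of morphisms of smooth varieties through the cotangent maps
-/

set_option autoImplicit false
set_option linter.style.haveILetI false
set_option backward.isDefEq.respectTransparency false
set_option backward.isDefEq.respectTransparency.types false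

universe u

open CategoryTheory CategoryTheory.Limits AlgebraicGeometry TopologicalSpace IsLocalRing

namespace Groth.Agent.SmDim19

variable {k : Type u} [Field k]

/-- The base field in a local ring. -/
noncomputable def constStalk {X : Scheme.{u}} (q : X ⟶ Spec (CommRingCat.of k)) (x : X) : k →+* X.presheaf.stalk x :=
  ((Scheme.ΓSpecIso (CommRingCat.of k)).inv ≫ q.appTop ≫ X.presheaf.germ ⊤ x trivial).hom

theorem constStalk_comp {X Y : Scheme.{u}} (q : Y ⟶ Spec (CommRingCat.of k)) (f : X ⟶ Y) (x : X) :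
    constStalk (f ≫ q) x = (f.stalkMap x).hom.comp (constStalk q (f x)) := by
  rw [constStalk, constStalk, ← CommRingCat.hom_comp, Category.assoc, Category.assoc, Scheme.Hom.germ_stalkMap,
    Scheme.Hom.comp_appTop, Category.assoc]
  rfl

theorem stalk_data {X : Scheme.{u}} (q : X ⟶ Spec (CommRingCat.of k)) [Smooth q] (x : X) :
    letI := (constStalk q x).toAlgebra
    Algebra.FormallySmooth k (X.presheaf.stalk x) ∧
      Module.Finite (X.presheaf.stalk x) (KaehlerDifferential k (X.presheaf.stalk x)) := by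
  letI := (constStalk q x).toAlgebra
  obtain ⟨U, hU, hxU, -⟩ := exists_isAffineOpen_mem_and_subset (X := X) (x := x) (U := ⊤) trivial
  let ε : k ≃+* Γ(Spec (CommRingCat.of k), ⊤) :=
    (Scheme.ΓSpecIso (CommRingCat.of k)).symm.commRingCatIsoToRingEquiv
  letI : Algebra k Γ(X, U) := ((q.appLE ⊤ U le_top).hom.comp ε.toRingHom).toAlgebra
  haveI : Algebra.Smooth k Γ(X, U) := RingHom.smooth_algebraMap.1
    (RingHom.Smooth.propertyIsLocal.respectsIso.2 _ ε (q.smooth_appLE (isAffineOpen_top _) hU le_top))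
  letI := X.presheaf.algebra_section_stalk (U := U) ⟨x, hxU⟩
  haveI : IsScalarTower k Γ(X, U) (X.presheaf.stalk x) := by
    refine IsScalarTower.of_algebraMap_eq' ?_
    change constStalk q x = (X.presheaf.germ U x hxU).hom.comp ((q.appLE ⊤ U le_top).hom.comp ε.toRingHom)
    rw [constStalk, Scheme.Hom.appLE, ← X.presheaf.germ_res (homOfLE le_top) x hxU]
    rfl
  haveI := hU.isLocalization_stalk ⟨x, hxU⟩
  haveI : Algebra.FormallyEtale Γ(X, U) (X.presheaf.stalk x) :=
    .of_isLocalization (hU.primeIdealOf ⟨x, hxU⟩).asIdeal.primeCompl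
  haveI : Algebra.EssFiniteType Γ(X, U) (X.presheaf.stalk x) :=
    .of_isLocalization _ (hU.primeIdealOf ⟨x, hxU⟩).asIdeal.primeCompl
  haveI := Algebra.EssFiniteType.comp k Γ(X, U) (X.presheaf.stalk x)
  exact ⟨Algebra.FormallySmooth.comp k Γ(X, U) _, inferInstance⟩

variable [IsAlgClosed k]

theorem bijective_residue_constStalk {X : Scheme.{u}} (q : X ⟶ Spec (CommRingCat.of k)) [LocallyOfFiniteType q]
    {x : X} (hx : IsClosed ({x} : Set X)) :
    Function.Bijective ((residue (X.presheaf.stalk x)).comp (constStalk q x)) := by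
  letI : X.Over (Spec (CommRingCat.of k)) := ⟨q⟩
  haveI : LocallyOfFiniteType (X ↘ Spec (CommRingCat.of k)) := inferInstanceAs (LocallyOfFiniteType q)
  exact ShStab28.bijective_const_residue k hx

/-- At a closed point a morphism of smooth schemes over an algebraically closed field is smooth iff its cotangent
map is injective. -/
theorem mem_smoothLocus_iff_cotangentMapAt_injective {X Y : Scheme.{u}} (q : Y ⟶ Spec (CommRingCat.of k))
    (f : X ⟶ Y) [Smooth q] [Smooth (f ≫ q)] [LocallyOfFinitePresentation f] {x : X} (hx : IsClosed ({x} : Set X)) :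
    x ∈ f.smoothLocus ↔ Function.Injective (FixPt.cotangentMapAt f x (f.base x) rfl) := by
  have hy : IsClosed ({f x} : Set Y) := VarDim.isClosed_singleton_image q f hx
  letI algA := (constStalk q (f x)).toAlgebra
  letI algT := (constStalk (f ≫ q) x).toAlgebra
  letI algAT := (f.stalkMap x).hom.toAlgebra
  haveI : IsScalarTower k (Y.presheaf.stalk (f x)) (X.presheaf.stalk x) :=
    IsScalarTower.of_algebraMap_eq' (constStalk_comp q f x)
  haveI : IsLocalHom (algebraMap (Y.presheaf.stalk (f x)) (X.presheaf.stalk x)) :=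
    inferInstanceAs (IsLocalHom (f.stalkMap x).hom)
  obtain ⟨-, hAfin⟩ := stalk_data q (f x)
  obtain ⟨hTfs, hTfin⟩ := stalk_data (f ≫ q) x
  haveI := hTfs
  haveI := hAfin
  haveI := hTfin
  have key := cotangent_injective_iff_formallySmooth k (Y.presheaf.stalk (f x)) (X.presheaf.stalk x)
    (bijective_residue_constStalk q hy) (bijective_residue_constStalk (f ≫ q) hx)
  rw [Scheme.Hom.mem_smoothLocus, show (f.stalkMap x).hom.FormallySmooth ↔
    Algebra.FormallySmooth (Y.presheaf.stalk (f x)) (X.presheaf.stalk x) from RingHom.formallySmooth_algebraMap,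
    ← key, injective_iff_map_eq_zero]
  have hsm : ∀ a, FixPt.stalkMapAt f x (f.base x) rfl a = (f.stalkMap x).hom a := fun a => by
    show (f.stalkMap x).hom ((Y.presheaf.stalkCongr (Inseparable.of_eq rfl)).inv.hom a) = _
    rw [TopCat.Presheaf.stalkCongr_inv, TopCat.Presheaf.stalkSpecializes_refl]
    rfl
  constructor
  · intro h v hv
    obtain ⟨⟨a, ha⟩, rfl⟩ := Ideal.toCotangent_surjective _ v
    rw [FixPt.cotangentMapAt, Ideal.mapCotangent_toCotangent, Ideal.toCotangent_eq_zero] at hv
    refine (Ideal.toCotangent_eq_zero _ _).2 (h a ha ?_)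
    show (f.stalkMap x).hom a ∈ _
    rw [← hsm a]; exact hv
  · intro h a ha haT
    refine (Ideal.toCotangent_eq_zero _ (⟨a, ha⟩ : maximalIdeal (Y.presheaf.stalk (f x)))).1 (h _ ?_)
    rw [FixPt.cotangentMapAt, Ideal.mapCotangent_toCotangent, Ideal.toCotangent_eq_zero]
    show FixPt.stalkMapAt f x (f.base x) rfl a ∈ _
    rw [hsm a]; exact haT

omit [IsAlgClosed k] in
/-- A smooth morphism of irreducible smooth schemes over a field is smooth of relative dimension the difference
of the dimensions. -/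
theorem smoothOfRelativeDimension_of_smooth_comp {X Y : Scheme.{u}} (q : Y ⟶ Spec (CommRingCat.of k))
    (f : X ⟶ Y) [Smooth f] [Smooth q] [IrreducibleSpace X] [IrreducibleSpace Y] {n dY : ℕ}
    (hY : topologicalKrullDim ↥Y = dY) (hX : topologicalKrullDim ↥X = ((dY + n : ℕ) : WithBot ℕ∞)) :
    SmoothOfRelativeDimension n f := by
  haveI := smoothOfRelativeDimension_of_smooth q dY hY
  haveI := smoothOfRelativeDimension_of_smooth (f ≫ q) (dY + n) hX
  refine ⟨fun x => ?_⟩
  obtain ⟨U, hU, V, hV, hxV, e, hs⟩ := Smooth.exists_isStandardSmooth f x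
  refine ⟨U, hU, V, hV, hxV, e, ?_⟩
  letI := (f.appLE U V e).hom.toAlgebra
  haveI : Algebra.IsStandardSmooth Γ(Y, U) Γ(X, V) := hs
  obtain ⟨ι, σ, _, _, ⟨P⟩⟩ := (inferInstance : Algebra.IsStandardSmooth Γ(Y, U) Γ(X, V)).out
  haveI hn : Algebra.IsStandardSmoothOfRelativeDimension P.dimension Γ(Y, U) Γ(X, V) :=
    ⟨ι, σ, inferInstance, inferInstance, P, rfl⟩
  haveI : SmoothOfRelativeDimension P.dimension (V.ι ≫ f) := by
    haveI : IsAffine V.toScheme := hV
    refine ⟨fun y => ⟨U, hU, ⊤, isAffineOpen_top _, trivial, fun y' _ => e y'.2, ?_⟩⟩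
    have e' : (V.ι ≫ f).appLE U ⊤ (fun y' _ => e y'.2) = f.appLE U V e ≫ V.topIso.inv := by
      simp [Scheme.Hom.appLE, Scheme.Opens.topIso]
      congr 1
      exact ((X.presheaf.map_comp _ _).symm).trans
        ((congrArg X.presheaf.map (Subsingleton.elim _ _)).trans (X.presheaf.map_comp _ _))
    rw [e', CommRingCat.hom_comp]
    exact RingHom.isStandardSmoothOfRelativeDimension_respectsIso.left _ V.topIso.symm.commRingCatIsoToRingEquiv
      ((RingHom.isStandardSmoothOfRelativeDimension_algebraMap P.dimension).2 hn)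
  haveI : JacobsonSpace X := LocallyOfFiniteType.jacobsonSpace (f ≫ q)
  obtain ⟨z, hzV, hz⟩ := nonempty_inter_closedPoints (X := X) ⟨x, hxV⟩ V.2.isLocallyClosed
  have hz' : IsClosed ({(⟨z, hzV⟩ : V.toScheme)} : Set V.toScheme) := by
    convert hz.preimage V.ι.continuous using 1
    ext y
    exact ⟨fun h => congrArg Subtype.val h, fun h => Subtype.ext h⟩
  have h1 := ringKrullDim_stalk_of_isClosed ((V.ι ≫ f) ≫ q) (P.dimension + dY) hz'
  rw [ringKrullDim_eq_of_ringEquiv (V.stalkIso ⟨z, hzV⟩).commRingCatIsoToRingEquiv,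
    ringKrullDim_stalk_closed (f ≫ q) hX hz] at h1
  have h2 : dY + n = P.dimension + dY := by exact_mod_cast h1
  rw [show n = P.dimension by omega]
  exact (RingHom.isStandardSmoothOfRelativeDimension_algebraMap P.dimension).2 hn

end Groth.Agent.SmDim19
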