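import Groth.Agent.Lib.SmDim19.Tower
import Groth.Agent.Lib.Omega12.LocFree
import Groth.Agent.Lib.Omega12.SmoothCrit
import Groth.Agent.Lib.Omega12.Universal
import Mathlib.RingTheory.Smooth.StandardSmoothCotangent
import Mathlib.AlgebraicGeometry.Morphisms.Smooth

/-!
# Relative smoothness from locally free differentials of complementary ranks
-/

set_option autoImplicit false
set_option linter.style.haveILetI false
set_option backward.isDefEq.respectTransparency false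
set_option backward.isDefEq.respectTransparency.types false

universe u

open CategoryTheory CategoryTheory.Limits AlgebraicGeometry TopologicalSpace

namespace Groth.Agent.SmDim19

variable {S X Y : Scheme.{u}} (qX : X ⟶ S) (qY : Y ⟶ S) (f : X ⟶ Y)

/-- A basis of the differentials over a small affine chart. -/
theorem nonempty_basis_kaehler [QuasiSeparated f] {n : ℕ} (hF : FlatMod.IsFinLocFreeOfRank n (Omega.sheaf f)) (x : X) :
    ∃ W : X.Opens, x ∈ W ∧ ∀ (V : Y.Opens) (U : X.Opens), IsAffineOpen V → IsAffineOpen U → U ≤ W →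
      ∀ h : U ≤ f ⁻¹ᵁ V, letI := (f.appLE V U h).hom.toAlgebra
        Nonempty (Module.Basis (Fin n) Γ(X, U) Ω[Γ(X, U)⁄Γ(Y, V)]) := by
  obtain ⟨W, hxW, ⟨e⟩⟩ := hF x
  refine ⟨W, hxW, fun V U hV hU hUW h => ?_⟩
  letI := (f.appLE V U h).hom.toAlgebra
  obtain ⟨b⟩ := Omega12.nonempty_basis_sections
    (Omega12.isQCoh_receptacle f (Omega12.isUniversal_dOmega f)) e hU hUW
  exact ⟨b.map (Omega12.sectLinEquiv f (Omega12.isUniversal_dOmega f) hU hV h).symm⟩

/-- A morphism of smooth schemes over a base is smooth of relative dimension `n` if its differentials are locally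
free of rank `n` and the ranks are complementary. -/
theorem smoothOfRelativeDimension_of_omega (hf : f ≫ qY = qX) [Smooth qX] [LocallyOfFinitePresentation qY]
    [QuasiSeparated f] [QuasiSeparated qX] [QuasiSeparated qY] {n dY : ℕ}
    (hF : FlatMod.IsFinLocFreeOfRank n (Omega.sheaf f))
    (hY : FlatMod.IsFinLocFreeOfRank dY (Omega.sheaf qY))
    (hX : FlatMod.IsFinLocFreeOfRank (dY + n) (Omega.sheaf qX)) : SmoothOfRelativeDimension n f := by
  subst hf
  refine ⟨fun x => ?_⟩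
  obtain ⟨S₀, hS₀, hxS, -⟩ := exists_isAffineOpen_mem_and_subset (X := S) (x := qY (f x)) (U := ⊤) trivial
  obtain ⟨WY, hxWY, hWY⟩ := nonempty_basis_kaehler qY hY (f x)
  obtain ⟨V, hV, hxV, hVle⟩ := exists_isAffineOpen_mem_and_subset (X := Y) (x := f x) (U := WY ⊓ qY ⁻¹ᵁ S₀)
    ⟨hxWY, hxS⟩
  have hVS : V ≤ qY ⁻¹ᵁ S₀ := fun y hy => (hVle hy).2
  obtain ⟨WX, hxWX, hWX⟩ := nonempty_basis_kaehler (f ≫ qY) hX x
  obtain ⟨WF, hxWF, hWF⟩ := nonempty_basis_kaehler f hF x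
  obtain ⟨U, hU, hxU, hUle⟩ := exists_isAffineOpen_mem_and_subset (X := X) (x := x) (U := WX ⊓ WF ⊓ f ⁻¹ᵁ V)
    ⟨⟨hxWX, hxWF⟩, hxV⟩
  have hUV : U ≤ f ⁻¹ᵁ V := fun y hy => (hUle hy).2
  have hUS : U ≤ (f ≫ qY) ⁻¹ᵁ S₀ := fun y hy => hVS (hUV hy)
  letI algB := (qY.appLE S₀ V hVS).hom.toAlgebra
  letI algT := ((f ≫ qY).appLE S₀ U hUS).hom.toAlgebra
  letI algBT := (f.appLE V U hUV).hom.toAlgebra
  haveI : IsScalarTower Γ(S, S₀) Γ(Y, V) Γ(X, U) := by
    refine IsScalarTower.of_algebraMap_eq' ?_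
    change ((f ≫ qY).appLE S₀ U hUS).hom = (f.appLE V U hUV).hom.comp (qY.appLE S₀ V hVS).hom
    rw [← CommRingCat.hom_comp, Scheme.Hom.appLE_comp_appLE]
  haveI : Algebra.Smooth Γ(S, S₀) Γ(X, U) :=
    HasRingHomProperty.appLE (P := @Smooth) (f ≫ qY) inferInstance ⟨S₀, hS₀⟩ ⟨U, hU⟩ hUS
  haveI : Algebra.FinitePresentation Γ(Y, V) Γ(X, U) := by
    haveI : Algebra.FinitePresentation Γ(S, S₀) Γ(X, U) := inferInstance
    haveI : Algebra.FiniteType Γ(S, S₀) Γ(Y, V) := qY.finiteType_appLE hS₀ hV hVS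
    exact Algebra.FinitePresentation.of_restrict_scalars_finitePresentation Γ(S, S₀) Γ(Y, V) Γ(X, U)
  obtain ⟨bB⟩ := hWY S₀ V hS₀ hV (fun y hy => (hVle hy).1) hVS
  obtain ⟨bT⟩ := hWX S₀ U hS₀ hU (fun y hy => (hUle hy).1.1) hUS
  obtain ⟨bR⟩ := hWF V U hV hU (fun y hy => (hUle hy).1.2) hUV
  haveI : Algebra.FormallySmooth Γ(Y, V) Γ(X, U) :=
    formallySmooth_of_basis Γ(S, S₀) Γ(Y, V) Γ(X, U) bB bT bR
  haveI : Algebra.Smooth Γ(Y, V) Γ(X, U) := ⟨inferInstance, inferInstance⟩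
  obtain ⟨s, hs, hstd⟩ := Algebra.Smooth.exists_span_eq_top_isStandardSmooth Γ(Y, V) Γ(X, U)
  obtain ⟨g, hgs, hxg⟩ : ∃ g ∈ s, x ∈ X.basicOpen g := by
    by_contra! hc
    have : Ideal.span s ≤ (hU.primeIdealOf ⟨x, hxU⟩).asIdeal := Ideal.span_le.2 fun g hg => by
      by_contra hgn
      apply hc g hg
      have h2 : hU.primeIdealOf ⟨x, hxU⟩ ∈ hU.fromSpec ⁻¹ᵁ X.basicOpen g := by
        rw [hU.fromSpec_preimage_basicOpen]
        exact hgn
      have h3 : hU.fromSpec (hU.primeIdealOf ⟨x, hxU⟩) ∈ X.basicOpen g := h2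
      rwa [hU.fromSpec_primeIdealOf] at h3
    exact (hU.primeIdealOf ⟨x, hxU⟩).2.ne_top (top_le_iff.1 (hs ▸ this))
  let W := X.basicOpen g
  have hW : IsAffineOpen W := hU.basicOpen g
  have hWV : W ≤ f ⁻¹ᵁ V := (X.basicOpen_le g).trans hUV
  refine ⟨V, hV, W, hW, hxg, hWV, ?_⟩
  letI algW := (f.appLE V W hWV).hom.toAlgebra
  haveI : IsScalarTower Γ(Y, V) Γ(X, U) Γ(X, W) := by
    refine IsScalarTower.of_algebraMap_eq' ?_
    change (f.appLE V W hWV).hom =
      ((X.presheaf.map (homOfLE (X.basicOpen_le g)).op)).hom.comp (f.appLE V U hUV).hom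
    rw [← CommRingCat.hom_comp, Scheme.Hom.appLE_map]
  haveI := hU.isLocalization_basicOpen g
  haveI : Algebra.IsStandardSmooth Γ(Y, V) (Localization.Away g) := hstd g hgs
  haveI : Algebra.IsStandardSmooth Γ(Y, V) Γ(X, W) :=
    Algebra.IsStandardSmooth.of_algEquiv ((IsLocalization.algEquiv (Submonoid.powers g) (Localization.Away g)
      Γ(X, W)).restrictScalars Γ(Y, V))
  obtain ⟨bW⟩ := hWF V W hV hW (fun y hy => (hUle ((X.basicOpen_le g) hy)).1.2) hWV
  haveI : Nonempty W.toScheme := ⟨⟨x, hxg⟩⟩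
  haveI : Nontrivial Γ(X, W) := Scheme.component_nontrivial X W
  refine (RingHom.isStandardSmoothOfRelativeDimension_algebraMap n).2
    ((Algebra.IsStandardSmoothOfRelativeDimension.iff_of_isStandardSmooth n).2 ?_)
  rw [rank_eq_card_basis bW, Fintype.card_fin]

end Groth.Agent.SmDim19
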