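import Groth.Agent.Lib.SmDim19.CotangentScheme
import Groth.Agent.Lib.Omega12.Finite
import Groth.Agent.Lib.Omega12.Universal
import Groth.Agent.Lib.EquidimStalk4
import Groth.Agent.Lib.PureClosed13.Rank
import Mathlib.RingTheory.Ideal.KrullsHeightTheorem
import Mathlib.RingTheory.Localization.Module

/-!
# The fibre of the sheaf of differentials at a closed point
-/

set_option autoImplicit false
set_option linter.style.haveILetI false
set_option backward.isDefEq.respectTransparency false
set_option backward.isDefEq.respectTransparency.types false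

universe u

open CategoryTheory CategoryTheory.Limits AlgebraicGeometry TopologicalSpace IsLocalRing

namespace Groth.Agent.SmDim19

/-- An irreducible closed set of dimension `r` inside the fibre through a closed point `x` bounds below the
dimension of the fibre's local ring at `x`. -/
theorem le_ringKrullDim_fibre_stalk {k : Type u} [Field k] {X Y : Scheme.{u}} (q : X ⟶ Spec (CommRingCat.of k))
    [LocallyOfFiniteType q] (f : X ⟶ Y) {x : X} (hx : IsClosed ({x} : Set X)) (Z : Set X) (hZ : IsIrreducible Z)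
    (hZc : IsClosed Z) (hxZ : x ∈ Z) (hZf : Z ⊆ f.base ⁻¹' {f.base x}) (r : ℕ)
    (hr : topologicalKrullDim ↥Z = (r : WithBot ℕ∞)) :
    (r : WithBot ℕ∞) ≤ ringKrullDim (X.presheaf.stalk x ⧸
      (maximalIdeal (Y.presheaf.stalk (f x))).map (f.stalkMap x).hom) := by
  obtain ⟨η, hη⟩ := QuasiSober.sober hZ hZc
  have hηx : η ⤳ x := hη.specializes hxZ
  obtain ⟨p, hp⟩ := (Scheme.range_fromSpecStalk (X := X) (x := x)).ge hηx
  obtain ⟨w, hw⟩ := EquidimStalk4.exists_preimage hηx
  haveI : IrreducibleSpace (EquidimStalk4.Cl η) := by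
    obtain ⟨g, -, hg⟩ := EquidimStalk4.exists_gen η
    have h1 : closure ({g} : Set (EquidimStalk4.Cl η)) = Set.univ :=
      Set.eq_univ_of_forall fun a => specializes_iff_mem_closure.1 (hg a)
    have h2 : IsIrreducible (Set.univ : Set (EquidimStalk4.Cl η)) := h1 ▸ isIrreducible_singleton.closure
    exact { isPreirreducible_univ := h2.2, toNonempty := ⟨g⟩ }
  have hd : topologicalKrullDim ↥(EquidimStalk4.Cl η) = (r : WithBot ℕ∞) := by
    rw [← hr]
    exact IsHomeomorph.topologicalKrullDim_eq _
      ((EquidimStalk4.clι η).isEmbedding.toHomeomorph.trans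
        (Homeomorph.setCongr ((EquidimStalk4.range_clι η).trans hη))).isHomeomorph
  have hwc : IsClosed ({w} : Set (EquidimStalk4.Cl η)) := by
    convert hx.preimage (EquidimStalk4.clι η).continuous using 1
    ext a
    exact ⟨fun h => by subst h; exact hw, fun h => (EquidimStalk4.clι η).isEmbedding.injective (h.trans hw.symm)⟩
  rw [← ringKrullDim_stalk_closed (EquidimStalk4.clι η ≫ q) hd hwc,
    EquidimStalk4.dim_stalk_cl w hw (p : PrimeSpectrum _) hp]
  have hJp : (maximalIdeal (Y.presheaf.stalk (f x))).map (f.stalkMap x).hom ≤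
      (p : PrimeSpectrum (X.presheaf.stalk x)).asIdeal := by
    rw [Ideal.map_le_iff_le_comap]
    have h1 : Y.fromSpecStalk (f x) (Spec.map (f.stalkMap x) p) = f x := by
      rw [← Scheme.Hom.comp_apply, Scheme.SpecMap_stalkMap_fromSpecStalk, Scheme.Hom.comp_apply, hp]
      exact hZf (hη.mem)
    have h2 : Spec.map (f.stalkMap x) p = IsLocalRing.closedPoint (Y.presheaf.stalk (f x)) :=
      (Y.fromSpecStalk (f x)).isEmbedding.injective (h1.trans (Scheme.fromSpecStalk_closedPoint (x := f x)).symm)
    exact (congrArg PrimeSpectrum.asIdeal h2).ge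
  exact ringKrullDim_le_of_surjective (Ideal.Quotient.factor hJp) (Ideal.Quotient.factor_surjective hJp)

set_option maxHeartbeats 800000 in
/-- `dim O_{f⁻¹(f x), x} ≤ dim Ω_{X/Y}(x)` at a closed point. -/
theorem ringKrullDim_fibre_stalk_le {k : Type u} [Field k] [IsAlgClosed k] {X Y : Scheme.{u}}
    [X.Over (Spec (CommRingCat.of k))] [LocallyOfFiniteType (X ↘ Spec (CommRingCat.of k))]
    (qY : Y ⟶ Spec (CommRingCat.of k)) [LocallyOfFiniteType qY]
    (f : X ⟶ Y) (hf : f ≫ qY = X ↘ Spec (CommRingCat.of k)) [QuasiSeparated f] {x : X}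
    (hx : IsClosed ({x} : Set X)) :
    letI := FixPt.fiberModule k X (Omega.sheaf f) x
    ringKrullDim (X.presheaf.stalk x ⧸ (maximalIdeal (Y.presheaf.stalk (f x))).map (f.stalkMap x).hom) ≤
      ((Module.finrank k (FixPt.fiber (Omega.sheaf f) x) : ℕ) : WithBot ℕ∞) := by
  letI := FixPt.fiberModule k X (Omega.sheaf f) x
  haveI : IsLocallyNoetherian X := LocallyOfFiniteType.isLocallyNoetherian (X ↘ Spec (CommRingCat.of k))
  haveI : IsLocallyNoetherian Y := LocallyOfFiniteType.isLocallyNoetherian qY
  haveI : LocallyOfFiniteType (f ≫ qY) := by rw [hf]; infer_instance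
  haveI : LocallyOfFiniteType f := locallyOfFiniteType_of_comp f qY
  have hy : IsClosed ({f x} : Set Y) := VarDim.isClosed_singleton_image qY f hx
  set q := X ↘ Spec (CommRingCat.of k)
  have hbT := bijective_residue_constStalk q hx
  have hbA := bijective_residue_constStalk qY hy
  letI algT : Algebra k (X.presheaf.stalk x) := (constStalk q x).toAlgebra
  set J := (maximalIdeal (Y.presheaf.stalk (f x))).map (f.stalkMap x).hom
  have hJ : J ≤ maximalIdeal (X.presheaf.stalk x) :=
    Ideal.map_le_iff_le_comap.2 fun a ha => map_nonunit (f.stalkMap x).hom a ha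
  let R := X.presheaf.stalk x ⧸ J
  haveI : Nontrivial R := Ideal.Quotient.nontrivial_iff.2 fun h =>
    (maximalIdeal.isMaximal _).ne_top (top_le_iff.1 (h ▸ hJ))
  haveI : IsLocalRing R := IsLocalRing.of_surjective' (Ideal.Quotient.mk J) Ideal.Quotient.mk_surjective
  haveI : IsLocalHom (Ideal.Quotient.mk J) :=
    IsLocalHom.of_surjective _ Ideal.Quotient.mk_surjective
  have hresR : Function.Surjective ((residue R).comp (algebraMap k R)) := by
    intro z
    obtain ⟨w, rfl⟩ := residue_surjective z
    obtain ⟨t, rfl⟩ := Ideal.Quotient.mk_surjective w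
    obtain ⟨c, hc⟩ := hbT.2 (residue _ t)
    refine ⟨c, ?_⟩
    have h1 : algebraMap k (X.presheaf.stalk x) c - t ∈ maximalIdeal (X.presheaf.stalk x) := by
      rw [← residue_eq_zero_iff, map_sub, sub_eq_zero]; exact hc
    show residue R (Ideal.Quotient.mk J (algebraMap k (X.presheaf.stalk x) c)) = _
    rw [← sub_eq_zero, ← map_sub, ← map_sub, residue_eq_zero_iff]
    exact map_nonunit (Ideal.Quotient.mk J) _ h1
  obtain ⟨L, hL⟩ := exists_toCotangent k R ⟨RingHom.injective _, hresR⟩
  -- an affine chart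
  obtain ⟨V, hV, hxV, -⟩ := exists_isAffineOpen_mem_and_subset (X := Y) (x := f x) (U := ⊤) trivial
  obtain ⟨U, hU, hxU, hUV⟩ := exists_isAffineOpen_mem_and_subset (X := X) (x := x) (U := f ⁻¹ᵁ V) hxV
  letI algVU : Algebra Γ(Y, V) Γ(X, U) := (f.appLE V U hUV).hom.toAlgebra
  letI algUT := X.presheaf.algebra_section_stalk (U := U) ⟨x, hxU⟩
  letI algVT : Algebra Γ(Y, V) (X.presheaf.stalk x) :=
    ((algebraMap Γ(X, U) (X.presheaf.stalk x)).comp (algebraMap Γ(Y, V) Γ(X, U))).toAlgebra
  haveI : IsScalarTower Γ(Y, V) Γ(X, U) (X.presheaf.stalk x) := IsScalarTower.of_algebraMap_eq' rfl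
  letI : Module Γ(X, U) (CotangentSpace R) := Module.compHom _ (algebraMap Γ(X, U) R)
  letI : Module Γ(Y, V) (CotangentSpace R) := Module.compHom _ (algebraMap Γ(Y, V) R)
  haveI : IsScalarTower Γ(Y, V) Γ(X, U) (CotangentSpace R) := IsScalarTower.of_algebraMap_smul fun a w => by
    show algebraMap Γ(X, U) R (algebraMap Γ(Y, V) Γ(X, U) a) • w = algebraMap Γ(Y, V) R a • w
    rfl
  let δ : Γ(X, U) → CotangentSpace R := fun b => L (KaehlerDifferential.D k R (algebraMap Γ(X, U) R b))
  have hδA : ∀ a : Γ(Y, V), δ (algebraMap Γ(Y, V) Γ(X, U) a) = 0 := fun a => by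
    have h1 : (algebraMap Γ(X, U) R (algebraMap Γ(Y, V) Γ(X, U) a)) =
        Ideal.Quotient.mk J ((f.stalkMap x).hom (Y.presheaf.germ V (f x) hxV a)) := by
      show Ideal.Quotient.mk J (X.presheaf.germ U x hxU (f.appLE V U hUV a)) = _
      congr 1
      show (f.appLE V U hUV ≫ X.presheaf.germ U x hxU) a = (Y.presheaf.germ V (f x) hxV ≫ f.stalkMap x) a
      congr 1
      delta Scheme.Hom.appLE
      rw [Category.assoc, TopCat.Presheaf.germ_res, ← Scheme.Hom.germ_stalkMap]
    obtain ⟨c, hc⟩ := hbA.2 (residue _ (Y.presheaf.germ V (f x) hxV a))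
    have h2 : algebraMap Γ(X, U) R (algebraMap Γ(Y, V) Γ(X, U) a) = algebraMap k R c := by
      rw [h1]
      show _ = Ideal.Quotient.mk J (constStalk q x c)
      rw [Ideal.Quotient.eq, show constStalk q x c = (f.stalkMap x).hom (constStalk qY (f x) c) from by
        rw [← RingHom.comp_apply, ← constStalk_comp, hf], ← map_sub]
      refine Ideal.mem_map_of_mem _ ?_
      rw [← residue_eq_zero_iff, map_sub, sub_eq_zero]
      exact hc.symm
    show L (KaehlerDifferential.D k R _) = 0
    rw [h2, Derivation.map_algebraMap, map_zero]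
  have hδmul : ∀ a b, δ (a * b) = a • δ b + b • δ a := fun a b => by
    show L _ = algebraMap Γ(X, U) R a • L _ + algebraMap Γ(X, U) R b • L _
    rw [map_mul, Derivation.leibniz, map_add, map_smul, map_smul]
  let d : Derivation Γ(Y, V) Γ(X, U) (CotangentSpace R) := Derivation.mk'
    { toFun := δ
      map_add' := fun a b => by show L _ = L _ + L _; simp only [map_add]
      map_smul' := fun a b => by
        show δ (a • b) = a • δ b
        rw [Algebra.smul_def, hδmul, hδA, smul_zero, add_zero, algebraMap_smul] } hδmul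
  let hd := Omega12.isUniversal_dOmega f
  let l : Γ(Omega.sheaf f, U) →ₗ[Γ(X, U)] CotangentSpace R :=
    d.liftKaehlerDifferential ∘ₗ (Omega12.sectLinEquiv f hd hU hV hUV).symm.toLinearMap
  haveI hqc : Coh.IsQCoh (Omega.sheaf f) := Omega12.isQCoh_receptacle f hd
  letI := M1.stalkModule (Omega.sheaf f) hxU
  haveI := M1.isLocalizedModule_germ (Omega.sheaf f) hU hxU
  haveI hloc := hU.isLocalization_stalk ⟨x, hxU⟩
  haveI : IsScalarTower Γ(X, U) (X.presheaf.stalk x) ((Omega.sheaf f).presheaf.stalk x) :=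
    IsScalarTower.of_algebraMap_smul fun _ _ => rfl
  letI : Module (X.presheaf.stalk x) (CotangentSpace R) := Module.compHom _ (Ideal.Quotient.mk J)
  haveI : IsScalarTower Γ(X, U) (X.presheaf.stalk x) (CotangentSpace R) :=
    IsScalarTower.of_algebraMap_smul fun a w => rfl
  let S := (hU.primeIdealOf ⟨x, hxU⟩).asIdeal.primeCompl
  have hunit : ∀ s : S, IsUnit (algebraMap Γ(X, U) (Module.End Γ(X, U) (CotangentSpace R)) s) := fun s => by
    obtain ⟨v, hv⟩ := IsLocalization.map_units (X.presheaf.stalk x) s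
    rw [Module.End.isUnit_iff]
    constructor
    · intro w w' h
      change algebraMap Γ(X, U) (X.presheaf.stalk x) (s : Γ(X, U)) • w =
        algebraMap Γ(X, U) (X.presheaf.stalk x) (s : Γ(X, U)) • w' at h
      rw [← hv] at h
      simpa [smul_smul] using congrArg (fun z => ((v⁻¹ : (X.presheaf.stalk x)ˣ) : X.presheaf.stalk x) • z) h
    · intro w
      refine ⟨((v⁻¹ : (X.presheaf.stalk x)ˣ) : X.presheaf.stalk x) • w, ?_⟩
      show algebraMap Γ(X, U) (X.presheaf.stalk x) (s : Γ(X, U)) • _ = w
      rw [← hv, Module.End.one_apply, smul_smul, Units.mul_inv, one_smul]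
  let Lh₀ := IsLocalizedModule.lift S (M1.germₗ (Omega.sheaf f) hxU) l hunit
  let Lh : (Omega.sheaf f).presheaf.stalk x →ₗ[X.presheaf.stalk x] CotangentSpace R :=
    LinearMap.extendScalarsOfIsLocalization S (X.presheaf.stalk x) Lh₀
  have hLh : ∀ b : Γ(X, U), δ b ∈ LinearMap.range Lh := fun b => by
    refine ⟨M1.germₗ (Omega.sheaf f) hxU (Omega12.sectLinEquiv f hd hU hV hUV (KaehlerDifferential.D _ _ b)), ?_⟩
    show Lh₀ _ = _
    rw [IsLocalizedModule.lift_apply]
    show d.liftKaehlerDifferential ((Omega12.sectLinEquiv f hd hU hV hUV).symm _) = _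
    rw [LinearEquiv.symm_apply_apply, Derivation.liftKaehlerDifferential_comp_D]
    rfl
  have hsurj : Function.Surjective Lh := by
    rw [← LinearMap.range_eq_top, ← top_le_iff]
    rintro w -
    obtain ⟨⟨r, hr⟩, rfl⟩ := Ideal.toCotangent_surjective _ w
    rw [← hL]
    obtain ⟨t, rfl⟩ := Ideal.Quotient.mk_surjective r
    obtain ⟨⟨b, s⟩, hbs⟩ := IsLocalization.surj S t
    obtain ⟨v, hv⟩ := IsLocalization.map_units (X.presheaf.stalk x) s
    set τ : X.presheaf.stalk x → CotangentSpace R :=
      fun t => L (KaehlerDifferential.D k R (Ideal.Quotient.mk J t))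
    have h1 : δ b = (v : X.presheaf.stalk x) • τ t + t • δ s := by
      show L (KaehlerDifferential.D k R (Ideal.Quotient.mk J (algebraMap Γ(X, U) (X.presheaf.stalk x) b))) = _
      rw [← hbs, map_mul, Derivation.leibniz, map_add, map_smul, map_smul, hv, add_comm]
      rfl
    have h2 : τ t = ((v⁻¹ : (X.presheaf.stalk x)ˣ) : X.presheaf.stalk x) • (δ b - t • δ s) := by
      rw [h1, add_sub_cancel_right, smul_smul, Units.inv_mul, one_smul]
    show τ t ∈ _
    rw [h2]
    exact Submodule.smul_mem _ _ (sub_mem (hLh b) (Submodule.smul_mem _ _ (hLh _)))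
  have hkill : maximalIdeal (X.presheaf.stalk x) • (⊤ : Submodule _ ((Omega.sheaf f).presheaf.stalk x)) ≤
      LinearMap.ker Lh := by
    refine Submodule.smul_le.2 fun r hr w _ => ?_
    rw [LinearMap.mem_ker, map_smul]
    show Ideal.Quotient.mk J r • Lh w = 0
    obtain ⟨⟨z, hz⟩, hzw⟩ := Ideal.toCotangent_surjective (maximalIdeal R) (Lh w)
    rw [← hzw, ← map_smul, Ideal.toCotangent_eq_zero, pow_two]
    exact Ideal.mul_mem_mul (map_nonunit (Ideal.Quotient.mk J) r hr) hz
  let φ : FixPt.fiber (Omega.sheaf f) x →ₗ[X.presheaf.stalk x] CotangentSpace R := Submodule.liftQ _ Lh hkill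
  have hφ : Function.Surjective φ := fun w => by
    obtain ⟨m, rfl⟩ := hsurj w
    exact ⟨Submodule.Quotient.mk m, rfl⟩
  -- finite dimensionality of the fibre over `k`
  have hsmul : ∀ (c : k) (w : FixPt.fiber (Omega.sheaf f) x), c • w = constStalk q x c • w := fun c w => rfl
  haveI : Module.Finite (X.presheaf.stalk x) ((Omega.sheaf f).presheaf.stalk x) :=
    M1.finite_stalk hqc (Omega12.isFT_receptacle f hd) x
  haveI : Module.Finite k (FixPt.fiber (Omega.sheaf f) x) := by
    obtain ⟨s, hs⟩ := (inferInstance : Module.Finite (X.presheaf.stalk x) (FixPt.fiber (Omega.sheaf f) x)).fg_top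
    refine ⟨⟨s, top_le_iff.1 fun w _ => ?_⟩⟩
    have hw : w ∈ Submodule.span (X.presheaf.stalk x) (s : Set (FixPt.fiber (Omega.sheaf f) x)) := by
      rw [hs]; trivial
    induction hw using Submodule.span_induction with
    | mem y hy => exact Submodule.subset_span hy
    | zero => exact zero_mem _
    | add y z _ _ hy hz => exact add_mem (hy trivial) (hz trivial)
    | smul t y _ hy =>
      obtain ⟨c, hc⟩ := hbT.2 (residue _ t)
      have h1 : t - constStalk q x c ∈ maximalIdeal (X.presheaf.stalk x) := by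
        rw [← residue_eq_zero_iff, map_sub, sub_eq_zero]; exact hc.symm
      have h2 : t • y = c • y := by
        obtain ⟨m, rfl⟩ := Submodule.Quotient.mk_surjective _ y
        rw [hsmul, ← sub_eq_zero, ← sub_smul, ← Submodule.Quotient.mk_smul, Submodule.Quotient.mk_eq_zero]
        exact Submodule.smul_mem_smul h1 trivial
      rw [h2]
      exact Submodule.smul_mem _ _ (hy trivial)
  let n := Module.finrank k (FixPt.fiber (Omega.sheaf f) x)
  let bs := Module.finBasis k (FixPt.fiber (Omega.sheaf f) x)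
  have hspan : Submodule.span (ResidueField R) (Set.range fun i => φ (bs i)) = ⊤ := by
    refine top_le_iff.1 fun w _ => ?_
    obtain ⟨v, rfl⟩ := hφ w
    rw [← bs.sum_repr v, map_sum]
    refine Submodule.sum_mem _ fun i _ => ?_
    rw [hsmul, map_smul]
    show Ideal.Quotient.mk J (constStalk q x (bs.repr v i)) • φ (bs i) ∈ _
    rw [← algebraMap_smul (ResidueField R) (Ideal.Quotient.mk J (constStalk q x (bs.repr v i))) (φ (bs i))]
    exact Submodule.smul_mem _ _ (Submodule.subset_span ⟨i, rfl⟩)
  have hle : Module.finrank (ResidueField R) (CotangentSpace R) ≤ n := by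
    have h3 := finrank_range_le_card (R := ResidueField R) fun i => φ (bs i)
    rw [Set.finrank, hspan, finrank_top, Fintype.card_fin] at h3
    exact h3
  refine (ringKrullDim_le_spanFinrank_maximalIdeal R).trans ?_
  rw [IsLocalRing.spanFinrank_maximalIdeal_eq_finrank_cotangentSpace]
  exact_mod_cast hle

end Groth.Agent.SmDim19
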