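import Groth.Agent.Lib.TowerSmooth5.Basic
import Mathlib.RingTheory.Kaehler.TensorProduct
import Mathlib.RingTheory.Smooth.Basic
import Mathlib.RingTheory.Finiteness.Basic
import Mathlib.LinearAlgebra.FiniteDimensional.Basic
import Mathlib.RingTheory.FiniteType

/-!
# Relative smoothness from the ranks of the differentials
-/

set_option autoImplicit false
set_option backward.isDefEq.respectTransparency.types false

universe u

open TensorProduct KaehlerDifferential

namespace Groth.Agent.SmDim19

variable (A B T : Type u) [CommRing A] [CommRing B] [CommRing T] [Algebra A B] [Algebra B T] [Algebra A T]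
  [IsScalarTower A B T]

/-- If `T` is formally smooth over `A` and the differentials of the tower are free of complementary ranks, then
`T` is formally smooth over `B`. -/
theorem formallySmooth_of_basis [Algebra.FormallySmooth A T] {a m : ℕ}
    (bB : Module.Basis (Fin a) B Ω[B⁄A]) (bT : Module.Basis (Fin (a + m)) T Ω[T⁄A])
    (bR : Module.Basis (Fin m) T Ω[T⁄B]) : Algebra.FormallySmooth B T := by
  rw [TowerSmooth5.formallySmooth_iff A B T]
  let M := T ⊗[B] Ω[B⁄A]
  obtain ⟨s, hs⟩ : ∃ s : Ω[T⁄B] →ₗ[T] Ω[T⁄A], KaehlerDifferential.map A B T T ∘ₗ s = LinearMap.id := by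
    haveI : Module.Projective T Ω[T⁄B] := Module.Projective.of_basis bR
    exact Module.projective_lifting_property _ _ (KaehlerDifferential.map_surjective A B T)
  let φ : (M × Ω[T⁄B]) →ₗ[T] Ω[T⁄A] := (mapBaseChange A B T).coprod s
  let bM : Module.Basis (Fin a) T M := bB.baseChange T
  let e : (M × Ω[T⁄B]) ≃ₗ[T] Ω[T⁄A] :=
    ((bM.prod bR).reindex finSumFinEquiv).equiv bT (Equiv.refl _)
  have hφ : Function.Surjective φ := by
    intro z
    have h0 : KaehlerDifferential.map A B T T (z - s (KaehlerDifferential.map A B T T z)) = 0 := by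
      rw [map_sub, ← LinearMap.comp_apply, hs, LinearMap.id_apply, sub_self]
    obtain ⟨w, hw⟩ := (exact_mapBaseChange_map A B T _).1 h0
    exact ⟨(w, KaehlerDifferential.map A B T T z), by simp [φ, hw]⟩
  haveI : Module.Finite T (M × Ω[T⁄B]) := Module.Finite.of_basis (bM.prod bR)
  have hbij : Function.Bijective (e.symm.toLinearMap ∘ₗ φ) :=
    OrzechProperty.bijective_of_surjective_endomorphism _ (e.symm.surjective.comp hφ)
  have hinj : Function.Injective φ := fun x y h => hbij.1 (by simp [h])
  let φe := LinearEquiv.ofBijective φ ⟨hinj, hφ⟩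
  refine ⟨LinearMap.fst T M Ω[T⁄B] ∘ₗ φe.symm.toLinearMap, LinearMap.ext fun x => ?_⟩
  have hx : φe (x, 0) = mapBaseChange A B T x := by simp [φe, φ]
  simp [← hx]

end Groth.Agent.SmDim19
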